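import Mathlib
import Cfsg.Agent.H613.KKL.Defs
import Cfsg.Agent.H610.KKL.Asm5
import Cfsg.Agent.H755.CC.HNThree
import Cfsg.Agent.H149.Sp.HNEleven
import Cfsg.Agent.H513.NilpHN
import Cfsg.Agent.KFacts.HN.Sheet
import Cfsg.Agent.FastGrp
import Cfsg.Agent.Prune
set_option linter.all false
prune_inst 0x7f00000000000000000000000000000000000000000000000000000000000000000000000000000000000000000000000000000000000000000000000000000000000000000000000000000000000000003fffffffffffffffffffffffffffbeffbdffffffff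
open scoped Cfsg.Agent.FastGrp

/-!
# S4546: the row HN (helper521)

* `no_e8_of_rank2`, `seven`, `exists_not_mem` : elementary facts;
* `two_type` : the centralizer of an element of order 5 of type II has no elementary abelian subgroup of order 8;
* `three`, `five` : no elementary abelian subgroup of order 8, all of whose involutions are in the class of `ψ τ`, commutes
  with an element of order 3 or 5;
* `E_HN`.
-/

set_option autoImplicit false

open Subgroup Cfsg Cfsg.Agent.H613.KKL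

namespace Cfsg.Agent.H521.KKL

/-! ### elementary facts -/

section Elem

variable {C : Type*} [Group C]

theorem exists_not_mem {D : Subgroup C} (h : Nat.card D = 8) (T : Finset C) (hT : T.card < 8) :
    ∃ y ∈ D, y ∉ T := by
  classical
  by_contra hcon
  push Not at hcon
  have h1 : Nat.card D ≤ Nat.card (T : Set C) := by
    refine Nat.card_le_card_of_injective (fun d : D => (⟨(d : C), hcon d d.2⟩ : (T : Set C))) ?_
    intro a b hab
    exact Subtype.ext (congrArg (fun z : (T : Set C) => (z : C)) hab)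
  rw [h] at h1
  have h2 : Nat.card (T : Set C) = T.card := by
    rw [Nat.card_coe_set_eq, Set.ncard_coe_finset]
  omega

theorem e8_comm {D : Subgroup C} (h : E8 D) {a b : C} (ha : a ∈ D) (hb : b ∈ D) : a * b = b * a := by
  have h1 : a * b = (a * b)⁻¹ := eq_inv_of_mul_eq_one_left (h.inv _ (D.mul_mem ha hb))
  rw [h1, mul_inv_rev, inv_eq_of_mul_eq_one_left (h.inv a ha), inv_eq_of_mul_eq_one_left (h.inv b hb)]

theorem e8_order {D : Subgroup C} (h : E8 D) {a : C} (ha : a ∈ D) (h1 : a ≠ 1) : orderOf a = 2 :=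
  orderOf_eq_prime (by rw [pow_two]; exact h.inv a ha) h1

theorem e8_isPGroup {D : Subgroup C} (h : E8 D) : IsPGroup 2 D := by
  intro d
  exact ⟨1, Subtype.ext (by rw [pow_one, pow_two]; exact h.inv d d.2)⟩

theorem e8_map {C' : Type*} [Group C'] {f : C →* C'} (hf : Function.Injective f) {D : Subgroup C} (h : E8 D) :
    E8 (D.map f) := by
  refine ⟨?_, ?_⟩
  · rw [← h.card]
    exact (Nat.card_congr (D.equivMapOfInjective f hf).toEquiv).symm
  · rintro _ ⟨d, hd, rfl⟩
    rw [← map_mul, h.inv d hd, map_one]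

theorem e8_subgroupOf {D H : Subgroup C} (h : E8 D) (hle : D ≤ H) : E8 (D.subgroupOf H) := by
  refine ⟨?_, ?_⟩
  · rw [← h.card]
    exact Nat.card_congr (subgroupOfEquivOfLe hle).toEquiv
  · intro d hd
    exact Subtype.ext (h.inv d hd)

/-- three commuting involutions generate at most a four-group -/
def Rank2 (C : Type*) [Group C] : Prop := ∀ {a b y : C}, orderOf a = 2 → orderOf b = 2 → orderOf y = 2 →
  a * b = b * a → a * y = y * a → b * y = y * b → a ≠ b → y = a ∨ y = b ∨ y = a * b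

theorem no_e8_of_rank2 (hr : Rank2 C) {D : Subgroup C} (h : E8 D) : False := by
  classical
  obtain ⟨a, ha, ha1⟩ := exists_not_mem h.card {1} (by simp)
  obtain ⟨b, hb, hb1⟩ := exists_not_mem h.card {1, a} (lt_of_le_of_lt Finset.card_le_two (by norm_num))
  obtain ⟨y, hy, hy1⟩ := exists_not_mem h.card {1, a, b, a * b} (lt_of_le_of_lt Finset.card_le_four (by norm_num))
  simp only [Finset.mem_insert, Finset.mem_singleton, not_or] at ha1 hb1 hy1
  rcases hr (e8_order h ha ha1) (e8_order h hb hb1.1) (e8_order h hy hy1.1) (e8_comm h ha hb) (e8_comm h ha hy)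
    (e8_comm h hb hy) (fun h => hb1.2 h.symm) with h1 | h1 | h1
  · exact hy1.2.1 h1
  · exact hy1.2.2.1 h1
  · exact hy1.2.2.2 h1

theorem rank2_of_uInv (h : Cfsg.Agent.CpAutTh.RankOne.UInv C) : Rank2 C := by
  intro a b y ha hb _ hab _ _ hne
  exact absurd (h a b ha hb hab) hne

theorem conj_eq {g d : C} (h : g * d = d * g) : g * d * g⁻¹ = d := by rw [h, mul_inv_cancel_right]

/-- a 7-element acting transitively: `7 ∤ |C(D)|` if `49 ∤ |S|` -/
theorem seven [Finite C] {D : Subgroup C} (hD : E8 D) {y x : C} (hy : Seven D y) (hx : orderOf x = 7)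
    (hc : ∀ d ∈ D, d * x = x * d) (h49 : ¬ 7 ^ 2 ∣ Nat.card C) : False := by
  classical
  have h7 : Fact (Nat.Prime 7) := ⟨by norm_num⟩
  let N := normalizer (D : Set C)
  have hyN : y ∈ N := mem_normalizer_iff.2 fun d => (hy.norm d).symm
  have hxN : x ∈ N := by
    refine mem_normalizer_iff.2 fun d => ?_
    constructor
    · intro hd
      rw [conj_eq (hc d hd).symm]
      exact hd
    · intro hd
      have h1 := hc _ hd
      have h2 : x * d * x⁻¹ = d := by
        have h3 : d * x = x * d := by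
          calc d * x = x⁻¹ * (x * d * x⁻¹ * x) * x := by group
            _ = x⁻¹ * (x * (x * d * x⁻¹)) * x := by rw [h1]
            _ = x * d := by group
        exact conj_eq h3.symm
      rwa [h2] at hd
  -- a Sylow 7-subgroup containing `y`
  have hyP : IsPGroup 7 (zpowers (⟨y, hyN⟩ : N)) := by
    obtain ⟨m, hm⟩ := hy.seven
    refine IsPGroup.of_card (n := m) ?_
    rw [Nat.card_zpowers, ← Subgroup.orderOf_coe]
    exact hm
  obtain ⟨P, hP⟩ := hyP.exists_le_sylow
  have hcard : Nat.card P ∣ 7 := by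
    obtain ⟨k, hk⟩ := IsPGroup.iff_card.1 P.isPGroup'
    have h1 : Nat.card P ∣ Nat.card C := (Subgroup.card_subgroup_dvd_card _).trans (Subgroup.card_subgroup_dvd_card _)
    rw [hk] at h1 ⊢
    have h2 : k < 2 := by
      by_contra h3
      exact h49 ((pow_dvd_pow 7 (by omega)).trans h1)
    exact (pow_dvd_pow 7 (show k ≤ 1 by omega)).trans (by norm_num)
  have hxP : IsPGroup 7 (zpowers (⟨x, hxN⟩ : N)) := by
    refine IsPGroup.of_card (n := 1) ?_
    rw [Nat.card_zpowers, ← Subgroup.orderOf_coe, pow_one]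
    exact hx
  obtain ⟨Q, hQ⟩ := hxP.exists_le_sylow
  obtain ⟨n, hn⟩ := MulAction.exists_smul_eq N Q P
  have h2 : n * ⟨x, hxN⟩ * n⁻¹ ∈ (P : Subgroup N) := by
    rw [← hn, Sylow.coe_subgroup_smul]
    exact ⟨⟨x, hxN⟩, hQ (mem_zpowers _), rfl⟩
  have hox : orderOf (⟨x, hxN⟩ : N) = 7 := by rw [← Subgroup.orderOf_coe]; exact hx
  have ho : orderOf (n * ⟨x, hxN⟩ * n⁻¹) = 7 := by
    rw [← hox]
    exact MulEquiv.orderOf_eq (MulAut.conj n) _
  have hz : zpowers (n * ⟨x, hxN⟩ * n⁻¹) = (P : Subgroup N) := by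
    apply Subgroup.eq_of_le_of_card_ge
    · rw [zpowers_le]
      exact h2
    · rw [Nat.card_zpowers, ho]
      exact Nat.le_of_dvd (by norm_num) hcard
  have hyz : (⟨y, hyN⟩ : N) ∈ zpowers (n * ⟨x, hxN⟩ * n⁻¹) := by
    rw [hz]
    exact hP (mem_zpowers _)
  -- `n x n⁻¹` centralizes `D`
  have hcx : ∀ d ∈ D, (n : C) * x * (n : C)⁻¹ * d = d * ((n : C) * x * (n : C)⁻¹) := by
    intro d hd
    have h3 : (n : C)⁻¹ * d * n ∈ D := by
      have h4 := (mem_normalizer_iff.1 (N.inv_mem n.2) d).1 hd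
      rwa [inv_inv] at h4
    have h5 := hc _ h3
    calc (n : C) * x * (n : C)⁻¹ * d = n * (x * ((n : C)⁻¹ * d * n)) * (n : C)⁻¹ := by group
      _ = n * ((n : C)⁻¹ * d * n * x) * (n : C)⁻¹ := by rw [h5]
      _ = _ := by group
  have hyc : ∀ d ∈ D, y * d = d * y := by
    intro d hd
    obtain ⟨k, hk⟩ := mem_zpowers_iff.1 hyz
    have hk' : ((n : C) * x * (n : C)⁻¹) ^ k = y := congrArg Subtype.val hk
    have h3 : Commute ((n : C) * x * (n : C)⁻¹) d := hcx d hd
    rw [← hk']
    exact (h3.zpow_left k).eq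
  obtain ⟨a, ha, ha1⟩ := exists_not_mem hD.card {1} (by simp)
  obtain ⟨b, hb, hb1⟩ := exists_not_mem hD.card {1, a} (lt_of_le_of_lt Finset.card_le_two (by norm_num))
  simp only [Finset.mem_insert, Finset.mem_singleton, not_or] at ha1 hb1
  obtain ⟨k, hk⟩ := hy.trans a ha ha1 b hb hb1.1
  have h6 : Commute (y ^ k) a := (show Commute y a from hyc a ha).pow_left k
  rw [conj_eq h6.eq] at hk
  exact hb1.2 hk.symm

end Elem

end Cfsg.Agent.H521.KKL

namespace Cfsg.Agent.H521.KKL.HN

open Cfsg.Agent.HN.Pres Cfsg.Agent.HN.H0Basic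
open Cfsg.Agent.HN.P1408 hiding ψ
open Cfsg.Agent.HN.XMat Cfsg.Agent.HN.XStruct
open Cfsg.Agent.HN.XWords (W0 W0_sq Q Γ sgn0 sgn0_mul)
open Cfsg.Agent.HN.NormalH (ψ)
open Cfsg.Agent
open Cfsg.Agent.KFacts.HN
open Cfsg.Agent.CpAutTh.RankOne (UInv)
open Cfsg.Agent.CpAutHN.PPFacts (isPGroup_ker app_eq_of_comm mem_ker_iff)
open Cfsg.Agent.CpAutHNFive Cfsg.Agent.CpAutHNFive.LFive Cfsg.Agent.CpAutHNFive.PFive
open Cfsg.Agent.CpAutHNFive.TFive (G sx order_sx comm_elt unique_one)

attribute [local instance] H755.CC.HNB.finite_G H755.CC.HNB.simple_G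

/-! ### order 5, type II -/

theorem fixC_eq : fixC = [0, 31, 41, 54, 64, 95, 105, 118, 142, 145, 167, 184, 206, 209, 231, 248] := by
  decide +kernel

theorem no_line : ∀ m ∈ fixC, ∀ m' ∈ fixC, m ≠ 0 → m' ≠ 0 → m ≠ m' →
    (CD.testBit m || CS.testBit m) = true → (CD.testBit m' || CS.testBit m') = true →
    (CD.testBit (m ^^^ m') || CS.testBit (m ^^^ m')) = true → False := by
  rw [fixC_eq]
  decide +kernel

theorem bits {m : ℕ} (hm : m < 256) (hm0 : m ≠ 0) {b : Bool} (h : (r Q m * sgn0 b) * (r Q m * sgn0 b) = 1) :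
    (CD.testBit m || CS.testBit m) = true := by
  rcases kinds hm with h1 | h1 | h1 | h1
  · exact absurd h1 hm0
  · rw [h1.1, Bool.true_or]
  · rw [h1.1, Bool.or_true]
  · exfalso
    have h2 := h1.2 b
    rw [h] at h2
    exact W0_ne h2.symm

/-- **type II**: no elementary abelian subgroup of order 8 -/
theorem two_type {x : PP} (hx : orderOf x = 5) (h : ρ x = φA c5 * φB (c5 ^ 3))
    {E : Subgroup ↥(centralizer ({(x : G)} : Set G))} (hE : E8 E) : False := by
  classical
  have h2F : Fact (Nat.Prime 2) := ⟨Nat.prime_two⟩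
  have h5 : x ^ 5 = 1 := by rw [← hx, pow_orderOf_eq_one]
  -- the Sylow 2-subgroup
  let T : Subgroup ↥(centralizer ({(x : G)} : Set G)) := RS.subgroupOf (centralizer ({(x : G)} : Set G))
  have hT : IsPGroup 2 T := by
    intro u
    obtain ⟨k, hk⟩ := H755.CC.HNB.RS_two ⟨((u : ↥(centralizer ({(x : G)} : Set G))) : G), mem_subgroupOf.1 u.2⟩
    refine ⟨k, Subtype.ext (Subtype.ext ?_)⟩
    have h0 := congrArg Subtype.val hk
    exact h0
  obtain ⟨P, hP⟩ := hT.exists_le_sylow
  -- 2-elements commuting with `W0`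
  have key : ∀ u ∈ (P : Subgroup ↥(centralizer ({(x : G)} : Set G))), u * sx x = sx x * u → u ∈ T := by
    intro u hu huc
    obtain ⟨v, hvu, hvx⟩ := comm_elt huc
    obtain ⟨k, hk⟩ := P.isPGroup' ⟨u, hu⟩
    have hk' : (u : G) ^ 2 ^ k = 1 := congrArg Subtype.val (congrArg Subtype.val hk)
    have h1 : v ^ 2 ^ k = 1 := by
      apply Subtype.ext
      change (v : G) ^ 2 ^ k = 1
      rw [hvu]
      exact hk'
    have h2 := ρ_two h hvx h1
    rw [mem_subgroupOf, ← hvu]
    exact ⟨v, h2, rfl⟩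
  have hWT : sx x ∈ T := by
    rw [mem_subgroupOf]
    exact W0_mem_RS
  have hxW : (x : G) * W0 = W0 * x := mem_PP.1 x.2
  have hnt : Nontrivial P := by
    refine ⟨⟨⟨sx x, hP hWT⟩, 1, fun h => ?_⟩⟩
    exact W0_ne (congrArg Subtype.val (congrArg Subtype.val h))
  have hZ : Nontrivial (center P) := P.isPGroup'.center_nontrivial
  obtain ⟨z, hz⟩ := exists_ne (1 : center P)
  have hzc : ∀ u ∈ (P : Subgroup ↥(centralizer ({(x : G)} : Set G))), u * ((z : P) : ↥(centralizer ({(x : G)} : Set G))) =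
      ((z : P) : ↥(centralizer ({(x : G)} : Set G))) * u := fun u hu =>
    congrArg Subtype.val (mem_center_iff.1 z.2 ⟨u, hu⟩)
  have hzT : ((z : P) : ↥(centralizer ({(x : G)} : Set G))) ∈ T := key _ (z : P).2 (hzc _ (hP hWT)).symm
  have hzW : ((z : P) : ↥(centralizer ({(x : G)} : Set G))) = sx x := by
    have h1 := large.cent (((z : P) : ↥(centralizer ({(x : G)} : Set G))) : G) (mem_subgroupOf.1 hzT) fun y hy =>
      comm_of_norm (R := RS) (z := W0) (x := (x : G)) H755.CC.HNB.orderOf_W0 (fun c hc => mem_PP.1 (RS_le_PP hc)) hxW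
        (congrArg Subtype.val h5) (fun r hr => conj_RS x.2 hr) large.comm (mem_subgroupOf.1 hzT)
        (mem_centralizer_singleton_iff.1 ((z : P) : ↥(centralizer ({(x : G)} : Set G))).2) (by
          intro d hd hdx
          have h2 : (⟨d, mem_centralizer_singleton_iff.2 hdx⟩ : ↥(centralizer ({(x : G)} : Set G))) ∈ T := hd
          exact (congrArg Subtype.val (hzc _ (hP h2))).symm) hy
    rcases h1 with h1 | h1
    · exact absurd (Subtype.ext (Subtype.ext (Subtype.ext h1))) hz
    · exact Subtype.ext h1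
  have hPT : (P : Subgroup ↥(centralizer ({(x : G)} : Set G))) ≤ T := fun u hu => key u hu (by rw [← hzW]; exact hzc u hu)
  -- conjugate `E` into `T`
  obtain ⟨g, hg⟩ := QD.exists_conj_mem P (e8_isPGroup hE)
  have hF : E8 (E.map (MulAut.conj g).toMonoidHom) := e8_map (MulAut.conj g).injective hE
  have hFT : ∀ u ∈ E.map (MulAut.conj g).toMonoidHom, u ∈ T := by
    rintro _ ⟨e, he, rfl⟩
    exact hPT (hg e he)
  -- masks
  have mask : ∀ u ∈ E.map (MulAut.conj g).toMonoidHom, ∃ m ∈ fixC, ∃ b : Bool, (u : G) = r Q m * sgn0 b := by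
    intro u hu
    obtain ⟨m, hm, b, hb⟩ := mem_RS.1 (mem_subgroupOf.1 (hFT u hu))
    refine ⟨m, mem_fixC.2 ⟨hm, ?_⟩, b, hb⟩
    have hup : (u : G) ∈ PP := RS_le_PP (mem_subgroupOf.1 (hFT u hu))
    refine app_eq_of_comm (x := x) (v := ⟨(u : G), hup⟩) (ρ_C h) hm (c := b) hb ?_
    exact Subtype.ext (mem_centralizer_singleton_iff.1 u.2)
  have sq : ∀ u ∈ E.map (MulAut.conj g).toMonoidHom, (u : G) * u = 1 := fun u hu => congrArg Subtype.val (hF.inv u hu)
  obtain ⟨a, ha, ha1⟩ := exists_not_mem hF.card {1, sx x} (lt_of_le_of_lt Finset.card_le_two (by norm_num))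
  obtain ⟨c, hc, hc1⟩ := exists_not_mem hF.card {1, sx x, a, a * sx x}
    (lt_of_le_of_lt Finset.card_le_four (by norm_num))
  simp only [Finset.mem_insert, Finset.mem_singleton, not_or] at ha1 hc1
  obtain ⟨m, hm, b, hab⟩ := mask a ha
  obtain ⟨m', hm', b', hcb⟩ := mask c hc
  have hr0 : r Q 0 = 1 := Bas.r_zero
  have n0 : ∀ (u : ↥(centralizer ({(x : G)} : Set G))) (b : Bool), u ≠ 1 → u ≠ sx x → (u : G) = r Q 0 * sgn0 b → False := by
    intro u b h1 h2 h3
    rw [hr0, one_mul] at h3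
    cases b
    · exact h1 (Subtype.ext h3)
    · exact h2 (Subtype.ext h3)
  have hm0 : m ≠ 0 := by
    rintro rfl
    exact n0 a b ha1.1 ha1.2 hab
  have hm0' : m' ≠ 0 := by
    rintro rfl
    exact n0 c b' hc1.1 hc1.2.1 hcb
  have hne : m ≠ m' := by
    rintro rfl
    have e1 : (c : G) = a * sgn0 (b ^^ b') := by
      rw [hab, hcb, mul_assoc, sgn0_mul, ← Bool.xor_assoc, Bool.xor_self, Bool.false_xor]
    cases hbb : (b ^^ b')
    · rw [hbb] at e1
      exact hc1.2.2.1 (Subtype.ext (e1.trans (mul_one _)))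
    · rw [hbb] at e1
      exact hc1.2.2.2 (Subtype.ext e1)
  have hlt := (mem_fixC.1 hm).1
  have hlt' := (mem_fixC.1 hm').1
  have hlt3 : m ^^^ m' < 256 := Nat.xor_lt_two_pow (n := 8) hlt hlt'
  have hm3 : m ^^^ m' ≠ 0 := by
    intro h3
    exact hne (Nat.xor_eq_zero_iff.1 h3)
  obtain ⟨d, hd⟩ := r_mul (a := m) (b := m')
  have e3 : ((a * c : ↥(centralizer ({(x : G)} : Set G))) : G) = r Q (m ^^^ m') * sgn0 (d ^^ (b ^^ b')) := by
    rw [Subgroup.coe_mul, hab, hcb]
    have h4 := sgn_comm b (r_mem_PP m')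
    calc r Q m * sgn0 b * (r Q m' * sgn0 b') = r Q m * (sgn0 b * r Q m') * sgn0 b' := by group
      _ = (r Q m * r Q m') * (sgn0 b * sgn0 b') := by rw [← h4]; group
      _ = r Q (m ^^^ m') * (sgn0 d * (sgn0 b * sgn0 b')) := by rw [hd]; group
      _ = _ := by rw [sgn0_mul, sgn0_mul]
  refine no_line m hm m' hm' hm0 hm0' hne (bits hlt hm0 (b := b) ?_) (bits hlt' hm0' (b := b') ?_)
    (bits hlt3 hm3 (b := d ^^ (b ^^ b')) ?_)
  · rw [← hab]
    exact sq a ha
  · rw [← hcb]
    exact sq c hc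
  · rw [← e3]
    exact sq (a * c) (mul_mem ha hc)

/-! ### pure subgroups -/

/-- elementary abelian of order 8, all involutions in the class of `ψ τ` -/
structure PureA (D : Subgroup G) : Prop extends E8 D where
  conj : ∀ z ∈ D, z ≠ 1 → IsConj z (ψ τ)

theorem PureA.map {D : Subgroup G} (h : PureA D) (g : G) : PureA (D.map (MulAut.conj g).toMonoidHom) where
  toE8 := e8_map (MulAut.conj g).injective h.toE8
  conj := by
    rintro _ ⟨d, hd, rfl⟩ h1
    have h2 : d ≠ 1 := by
      rintro rfl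
      exact h1 (map_one _)
    refine (isConj_iff.2 ⟨g, rfl⟩ : IsConj d (g * d * g⁻¹)).symm.trans (h.conj d hd h2)

theorem comm_map {D : Subgroup G} {x : G} (hc : ∀ d ∈ D, d * x = x * d) (g : G) :
    ∀ d ∈ D.map (MulAut.conj g).toMonoidHom, d * (g * x * g⁻¹) = g * x * g⁻¹ * d := by
  rintro _ ⟨d, hd, rfl⟩
  change g * d * g⁻¹ * (g * x * g⁻¹) = g * x * g⁻¹ * (g * d * g⁻¹)
  calc g * d * g⁻¹ * (g * x * g⁻¹) = g * (d * x) * g⁻¹ := by group
    _ = g * (x * d) * g⁻¹ := by rw [hc d hd]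
    _ = _ := by group

theorem le_cent {D : Subgroup G} {x : G} (hc : ∀ d ∈ D, d * x = x * d) : D ≤ centralizer ({x} : Set G) := fun d hd =>
  mem_centralizer_singleton_iff.2 (hc d hd)

/-- the involution `ψ τ` may be taken in `D` -/
theorem PureA.exists_tau {D : Subgroup G} (h : PureA D) :
    ∃ (g : G), ψ τ ∈ D.map (MulAut.conj g).toMonoidHom := by
  obtain ⟨a, ha, ha1⟩ := exists_not_mem h.card {1} (by simp)
  rw [Finset.mem_singleton] at ha1
  obtain ⟨g, hg⟩ := isConj_iff.1 (h.conj a ha ha1)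
  exact ⟨g, a, ha, hg⟩

open Cfsg.Agent.CpAutHNFive.HTab (w1 w2 w3 five_conj)
open Cfsg.Agent.CpAutHNFive.HFacts (order_w1 order_w2 order_w3)
open Cfsg.Agent.CpAutHNFive.TauFive (centralizer_pow)

/-- **order 5** -/
theorem five {D : Subgroup G} (h : PureA D) {x : G} (hx : orderOf x = 5) (hc : ∀ d ∈ D, d * x = x * d) : False := by
  have hfin : Finite H0 := finite_H0
  obtain ⟨g, hg⟩ := h.exists_tau
  have h1 := h.map g
  have hc1 := comm_map hc g
  have hx1 : orderOf (g * x * g⁻¹) = 5 := by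
    rw [← hx]
    exact MulEquiv.orderOf_eq (MulAut.conj g) x
  generalize D.map (MulAut.conj g).toMonoidHom = E at h1 hc1 hg
  generalize g * x * g⁻¹ = x' at hc1 hx1
  obtain ⟨y, rfl⟩ := emb.cent x' (hc1 _ hg).symm
  rw [orderOf_injective _ emb.inj] at hx1
  obtain ⟨k, m, hm1, hm5, w, hw', hk⟩ := five_conj hx1
  have h2 := h1.map (ψ k)
  have hc2 := comm_map hc1 (ψ k)
  have htau : ∀ d ∈ E.map (MulAut.conj (ψ k)).toMonoidHom, d * ψ τ = ψ τ * d := by
    have e1 : ψ k * ψ τ * (ψ k)⁻¹ = ψ τ := by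
      rw [← map_mul, τ_comm, map_mul, mul_inv_cancel_right]
    have h3 : ψ τ ∈ E.map (MulAut.conj (ψ k)).toMonoidHom := ⟨ψ τ, hg, e1⟩
    intro d hd
    exact e8_comm h2.toE8 hd h3
  rw [← map_inv, ← map_mul, ← map_mul, hk, map_pow] at hc2
  generalize E.map (MulAut.conj (ψ k)).toMonoidHom = F at h2 hc2 htau
  have hw5 : orderOf (ψ (hw w)) = 5 := by
    rw [orderOf_injective _ emb.inj]
    rcases hw' with rfl | rfl | rfl
    · exact order_w1
    · exact order_w2
    · exact order_w3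
  have hc3 : F ≤ centralizer ({ψ (hw w)} : Set G) := by
    rw [← centralizer_pow hw5 hm1 hm5]
    exact le_cent hc2
  have h4 := e8_subgroupOf h2.toE8 hc3
  rcases hw' with rfl | rfl | rfl
  · obtain ⟨y', hy', hρ, ⟨e⟩⟩ := BpSpor.HNFiveA.w1_two
    exact two_type hy' hρ (e8_map (f := e.toMonoidHom) e.injective h4)
  · exact no_e8_of_rank2 (fun {a b y} h1 h2 h3 h4 h5 h6 h7 =>
      QD.rank_two CpAutHNFive.Main.qdat CpAutHNFive.Main.not32 h1 h2 h3 h4 h5 h6 h7) h4
  · have h5 : F.comap ψ ≤ centralizer ({hw w3} : Set H0) := by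
      intro d hd
      refine mem_centralizer_singleton_iff.2 (emb.inj ?_)
      rw [map_mul, map_mul]
      exact mem_centralizer_singleton_iff.1 (hc3 hd)
    have h6 : (F.comap ψ).map ψ = F := by
      rw [Subgroup.map_comap_eq, inf_eq_right, H755.CC.HNB.range_ψ]
      exact le_cent htau
    have h7 : Nat.card (F.comap ψ) = 8 := by
      have h9 := Nat.card_congr ((F.comap ψ).equivMapOfInjective ψ emb.inj).toEquiv
      rwa [h6, h2.card] at h9
    have h8 := card_dvd_of_le h5
    rw [h7, CpAutHNFive.HFacts.card_three] at h8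
    norm_num at h8

/-! ### order 3 -/

section Nine

open Cfsg.Agent.CpAutHN.NineAlt (A9 ps ps_mem s9)
open Equiv.Perm (mem_alternatingGroup)

theorem type_ps : ps.cycleType = Multiset.replicate 4 2 := by decide +kernel

theorem ps_swap : Equiv.swap (0 : Fin 9) 2 * ps = ps * Equiv.swap 0 2 := by decide +kernel

/-- involutions of `A9` -/
theorem nine_inv {f : Equiv.Perm (Fin 9)} (hf : f ∈ alternatingGroup (Fin 9)) (h2 : f * f = 1) (h1 : f ≠ 1) :
    (∃ g ∈ alternatingGroup (Fin 9), g * ps * g⁻¹ = f) ∨ f.support.card = 4 := by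
  have ho : orderOf f = 2 := orderOf_eq_prime (by rw [pow_two]; exact h2) h1
  obtain ⟨n, hn⟩ := Equiv.Perm.cycleType_prime_order (σ := f) (by rw [ho]; exact Nat.prime_two)
  rw [ho] at hn
  have hs := Equiv.Perm.sign_of_cycleType f
  rw [mem_alternatingGroup.1 hf, hn, Multiset.sum_replicate, Multiset.card_replicate] at hs
  have hsum := f.sum_cycleType
  rw [hn, Multiset.sum_replicate] at hsum
  have hle : f.support.card ≤ 9 := by
    have := Finset.card_le_univ f.support
    simpa using this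
  have h3 : n < 4 := by
    rw [← hsum] at hle
    simp only [smul_eq_mul] at hle
    omega
  interval_cases n
  · exfalso
    revert hs
    decide
  · right
    rw [← hsum]
    rfl
  · exfalso
    revert hs
    decide
  · left
    have h4 : IsConj ps f := Equiv.Perm.isConj_iff_cycleType_eq.2 (by rw [type_ps, hn])
    obtain ⟨g, hg⟩ := isConj_iff.1 h4
    rcases Int.units_eq_one_or (Equiv.Perm.sign g) with h5 | h5
    · exact ⟨g, mem_alternatingGroup.2 h5, hg⟩
    · refine ⟨g * Equiv.swap 0 2, mem_alternatingGroup.2 ?_, ?_⟩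
      · rw [map_mul, h5, Equiv.Perm.sign_swap (by decide)]
        rfl
      · rw [← hg]
        calc g * Equiv.swap 0 2 * ps * (g * Equiv.swap 0 2)⁻¹ = g * (Equiv.swap 0 2 * ps) * (Equiv.swap 0 2)⁻¹ * g⁻¹ := by
              group
          _ = g * ps * g⁻¹ := by rw [ps_swap]; group

/-- Burnside: an elementary abelian group of order 8 of `A9` contains a conjugate of `s9` -/
theorem nine_exists {L : Subgroup A9} (hL : E8 L) : ∃ l ∈ L, ∃ g : A9, g * s9 * g⁻¹ = l := by
  classical
  by_contra hcon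
  push Not at hcon
  have hfix : ∀ l : L, l ≠ 1 → Fintype.card (MulAction.fixedBy (Fin 9) l) = 5 := by
    intro l hl
    have hl1 : (((l : A9)) : Equiv.Perm (Fin 9)) ≠ 1 := fun h => hl (Subtype.ext (Subtype.ext h))
    rcases nine_inv (l : A9).2 (congrArg Subtype.val (hL.inv l l.2)) hl1 with ⟨g, hg, h1⟩ | h1
    · exact absurd (Subtype.ext h1) (hcon l l.2 ⟨g, hg⟩)
    · have h2 : (MulAction.fixedBy (Fin 9) l).toFinset = ((((l : A9)) : Equiv.Perm (Fin 9)).support)ᶜ := by
        ext i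
        rw [Set.mem_toFinset, MulAction.mem_fixedBy, Finset.mem_compl, Equiv.Perm.mem_support, not_not]
        rfl
      rw [← Set.toFinset_card, h2, Finset.card_compl, h1]
      rfl
  have hfinL : Fintype L := Fintype.ofFinite L
  have hcard : Fintype.card L = 8 := by rw [← Nat.card_eq_fintype_card, hL.card]
  have hB := MulAction.sum_card_fixedBy_eq_card_orbits_mul_card_group L (Fin 9)
  rw [← Finset.add_sum_erase _ _ (Finset.mem_univ (1 : L)), Finset.sum_congr rfl (fun l hl => hfix l (Finset.ne_of_mem_erase hl)),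
    Finset.sum_const, Finset.card_erase_of_mem (Finset.mem_univ _), Finset.card_univ, hcard] at hB
  have h1 : Fintype.card (MulAction.fixedBy (Fin 9) (1 : L)) = 9 := by
    rw [← Set.toFinset_card]
    have : (MulAction.fixedBy (Fin 9) (1 : L)).toFinset = Finset.univ := by
      ext i
      rw [Set.mem_toFinset, MulAction.mem_fixedBy, one_smul]
      simp
    rw [this]
    rfl
  rw [h1] at hB
  simp only [smul_eq_mul] at hB
  omega

end Nine

open Cfsg.Agent.CpAutHN.Pairs (T1 T2 T1_or_T2 exists_two X1 order_X1 t2_x1 isConj_W0_of_tr)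
open Cfsg.Agent.CpAutHN.Second (Ψ Ψ_coe Ψ_inj ι ι_s9 tr_u9 u9_mem exists_sylow_C u9)
open Cfsg.Agent.CpAutHN.NineAlt (A9 s9)
open Cfsg.Agent.CpAutHN.Alt (Φ)

theorem conj_s9 : IsConj (Φ (ι s9)) W0 := by
  rw [ι_s9]
  exact isConj_W0_of_tr (CpAutHN.Pairs.orderOf_two u9_mem (by decide +kernel) (by decide +kernel)) tr_u9

/-- **order 3** -/
theorem three {D : Subgroup G} (h : PureA D) {x : G} (hx : orderOf x = 3) (hc : ∀ d ∈ D, d * x = x * d) : False := by
  obtain ⟨a, ha, ha1⟩ := exists_not_mem h.card {1} (by simp)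
  rw [Finset.mem_singleton] at ha1
  obtain ⟨s, hs, hxs⟩ := exists_two hx (e8_order h.toE8 ha ha1) (hc a ha).symm
  rcases T1_or_T2 hx hs hxs with hT | hT
  · have hs2 : orderOf (⟨s, mem_centralizer_singleton_iff.2 hxs.symm⟩ : ↥(centralizer ({x} : Set G))) = 2 := by
      rw [← Subgroup.orderOf_coe]
      change orderOf s = 2
      obtain ⟨c, hc⟩ := isConj_iff.1 hs
      rw [← H755.CC.HNB.orderOf_W0, ← hc]
      exact (MulEquiv.orderOf_eq (MulAut.conj c) s).symm
    have hU : UInv ↥(centralizer ({x} : Set G)) := (CpAutTh.RankOne.uInv_of_unique hs2 (by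
      intro u hu hus
      apply Subtype.ext
      exact hT.unique (by rw [Subgroup.orderOf_coe]; exact hu) (mem_centralizer_singleton_iff.1 u.2)
        (congrArg Subtype.val hus))).1
    exact no_e8_of_rank2 (rank2_of_uInv hU) (e8_subgroupOf h.toE8 (le_cent hc))
  · obtain ⟨c, hcx, -⟩ := hT.conj hx order_X1 t2_x1
    have h1 := h.map c
    have hc1 := comm_map hc c
    rw [hcx] at hc1
    generalize D.map (MulAut.conj c).toMonoidHom = F at h1 hc1
    have h2 := e8_subgroupOf h1.toE8 (le_cent hc1)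
    obtain ⟨T, hT, -⟩ := exists_sylow_C
    obtain ⟨k, hk⟩ := QD.exists_conj_mem T (e8_isPGroup h2)
    have hK := e8_map (f := (MulAut.conj k).toMonoidHom) (MulAut.conj k).injective h2
    have hL : E8 (((F.subgroupOf (centralizer ({X1} : Set G))).map (MulAut.conj k).toMonoidHom).comap Ψ) := by
      refine ⟨?_, ?_⟩
      · have h9 := Nat.card_congr ((((F.subgroupOf (centralizer ({X1} : Set G))).map
          (MulAut.conj k).toMonoidHom).comap Ψ).equivMapOfInjective Ψ Ψ_inj).toEquiv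
        rw [h9, Subgroup.map_comap_eq, inf_eq_right.2, hK.card]
        rintro _ ⟨t, ht, rfl⟩
        exact hT (hk t ht)
      · intro l hl
        apply Ψ_inj
        rw [map_mul, map_one]
        exact hK.inv _ hl
    obtain ⟨l, hl, g, hg⟩ := nine_exists hL
    obtain ⟨t, ht, htl⟩ := hl
    have htF : (t : G) ∈ F := mem_subgroupOf.1 ht
    have e1 : (k : G) * t * (k : G)⁻¹ = Φ (ι l) := by
      rw [← Ψ_coe, ← htl]
      rfl
    have h3 : IsConj (Φ (ι l)) W0 := by
      refine (isConj_iff.2 ⟨Φ (ι g), ?_⟩ : IsConj (Φ (ι s9)) (Φ (ι l))).symm.trans conj_s9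
      rw [← map_inv, ← map_inv, ← map_mul, ← map_mul, ← map_mul, ← map_mul, hg]
    have h4 : IsConj (t : G) W0 := (isConj_iff.2 ⟨(k : G), e1⟩ : IsConj (t : G) _).trans h3
    have ht1 : (t : G) ≠ 1 := by
      intro h5
      rw [h5] at h4
      have h6 := isConj_one_right.1 h4
      exact W0_ne h6
    exact H755.CC.HNB.not_conj ((h1.conj t htF ht1).symm.trans h4)

/-! ### orders 11, 19 -/

theorem eleven {D : Subgroup G} (h : PureA D) {x : G} (hx : orderOf x = 11) (hc : ∀ d ∈ D, d * x = x * d) : False := by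
  have h1 := card_dvd_of_le (le_cent hc)
  rw [h.card] at h1
  exact H149.Sp.hn_cent_eleven x hx (dvd_trans (by norm_num) h1)

theorem nineteen {D : Subgroup G} (h : PureA D) {x : G} (hx : orderOf x = 19) (hc : ∀ d ∈ D, d * x = x * d) :
    False := by
  obtain ⟨a, ha, ha1⟩ := exists_not_mem h.card {1} (by simp)
  rw [Finset.mem_singleton] at ha1
  have h1 : orderOf (⟨x, mem_centralizer_singleton_iff.2 (hc a ha).symm⟩ : ↥(centralizer ({a} : Set G))) = 19 := by
    rw [← Subgroup.orderOf_coe]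
    exact hx
  have h2 := orderOf_dvd_natCard (⟨x, mem_centralizer_singleton_iff.2 (hc a ha).symm⟩ : ↥(centralizer ({a} : Set G)))
  rw [h1, H755.CC.HNB.card_conj (h.conj a ha ha1), Classes.card_centralizer_τ] at h2
  norm_num at h2

/-! ### the row -/

/-- a class `2B` element of `D` is excluded by `O₂(C(W0))` -/
theorem no_W0 {D : Subgroup G} {x : G} (h : Cfg0 D x) (hW : W0 ∈ D) : False := by
  have h1 : RS ≤ D := by
    refine h.rad (zpowers W0) (by rw [zpowers_le]; exact hW) RS H755.CC.HNB.RS_two ?_ ?_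
    · intro r hr
      rw [mem_centralizer_iff]
      rintro _ ⟨k, rfl⟩
      have h2 : Commute r W0 := mem_PP.1 (RS_le_PP hr)
      exact (h2.zpow_right k).eq.symm
    · intro c hc n hn
      refine conj_RS (mem_PP.2 ?_) hn
      exact (mem_centralizer_iff.1 hc W0 (mem_zpowers _)).symm
  have h2 := Nat.le_of_dvd (by rw [h.e8.card]; norm_num) (card_dvd_of_le h1)
  rw [card_RS, h.e8.card] at h2
  norm_num at h2

theorem prime_cases {p : ℕ} (hp : p.Prime) (h : p ∣ 273030912000000) :
    p = 2 ∨ p = 3 ∨ p = 5 ∨ p = 7 ∨ p = 11 ∨ p = 19 :=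
  CpAutHNFive.Num.prime_cases hp (h.trans (by norm_num [CpAutHNFive.Num.N0]))

theorem nocfg : NoCfg G := by
  intro D x h
  have h2F : Fact (Nat.Prime 2) := ⟨Nat.prime_two⟩
  -- no involution of class 2B
  have hpure : PureA D := by
    refine ⟨h.e8, fun z hz hz1 => ?_⟩
    rcases Classes.inv_class (e8_order h.e8 hz hz1) with h1 | h1
    · exact h1
    · exfalso
      obtain ⟨c, hc⟩ := isConj_iff.1 h1
      exact no_W0 (H610.KKL.cfg0_map (MulAut.conj c) h) ⟨z, hz, hc⟩
  -- `x ≠ 1`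
  have hx1 : orderOf x ≠ 1 := by
    intro h1
    rw [orderOf_eq_one_iff] at h1
    obtain ⟨P, hP⟩ := Sylow.exists_subgroup_card_pow_prime (G := G) 2 (n := 4)
      (by rw [H755.CC.HNB.card_G]; norm_num)
    obtain ⟨c, -, hc⟩ := h.syl P (IsPGroup.of_card hP) (by intro q _; rw [h1, mul_one, one_mul])
    have h2 : P.map (MulAut.conj c).toMonoidHom ≤ D := by
      rintro _ ⟨q, hq, rfl⟩
      exact hc q hq
    have h3 := card_dvd_of_le h2
    rw [card_map_of_injective (MulAut.conj c).injective, h.e8.card, hP] at h3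
    norm_num at h3
  obtain ⟨p, hp, hpx⟩ := Nat.exists_prime_and_dvd hx1
  have hpG : p ∣ 273030912000000 := by
    rw [← H755.CC.HNB.card_G]
    exact hpx.trans (orderOf_dvd_natCard x)
  have hx2 : orderOf (x ^ (orderOf x / p)) = p := orderOf_pow_orderOf_div (orderOf_pos x).ne' hpx
  have hc : ∀ d ∈ D, d * x ^ (orderOf x / p) = x ^ (orderOf x / p) * d := fun d hd =>
    ((show Commute d x from h.comm d hd).pow_right _).eq
  rcases prime_cases hp hpG with rfl | rfl | rfl | rfl | rfl | rfl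
  · have := h.odd
    rw [← Nat.not_even_iff_odd] at this
    exact this (even_iff_two_dvd.2 hpx)
  · exact three hpure hx2 hc
  · exact five hpure hx2 hc
  · obtain ⟨y, hy⟩ := h.seven
    refine seven h.e8 hy hx2 hc ?_
    rw [H755.CC.HNB.card_G]
    norm_num
  · exact eleven hpure hx2 hc
  · exact nineteen hpure hx2 hc

end Cfsg.Agent.H521.KKL.HN

namespace Cfsg.Agent.H521.KKL

universe u

/-- **E_HN** -/
theorem E_HN {S : Type u} [Group S] [Finite S] (h : Spor.IsoHN S) : NoCfg S := by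
  obtain ⟨e⟩ := h
  exact H610.KKL.A7 e HN.nocfg

end Cfsg.Agent.H521.KKL
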